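import Mathlib
import Groth.Agent.TorsFpqcLib.Basic

/-!
# Torsor points on affine test schemes, cocycles, descent of points
-/

set_option autoImplicit false
set_option backward.isDefEq.respectTransparency false
set_option linter.all false
universe u

open CategoryTheory CategoryTheory.Limits MonoidalCategory CartesianMonoidalCategory MonObj AlgebraicGeometry
open NonAbH1
open scoped TensorProduct

noncomputable section

namespace Groth.Agent.TorsVec

variable {S : Scheme.{u}}

section Cart

variable {G X : Over S} [GrpObj G] (a : AlgGrp.Action G X) {T T' : Over S}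

/-- A point of the group moving a point of the torsor. -/
def smulPt (g : T ⟶ G) (p : T ⟶ X) : T ⟶ X := lift g p ≫ a.act

theorem comp_smulPt (f : T' ⟶ T) (g : T ⟶ G) (p : T ⟶ X) :
    f ≫ smulPt a g p = smulPt a (f ≫ g) (f ≫ p) := by
  rw [smulPt, smulPt, ← Category.assoc, comp_lift]

theorem mul_smulPt (g g' : T ⟶ G) (p : T ⟶ X) :
    smulPt a (g * g') p = smulPt a g (smulPt a g' p) := by
  have e : lift (g * g') p = lift (lift g g') p ≫ (μ[G] ▷ X) := by
    rw [Hom.mul_def, lift_whiskerRight]
  rw [smulPt, smulPt, smulPt, e, Category.assoc, a.mul_act, lift_lift_associator_hom_assoc,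
    lift_whiskerLeft_assoc]

theorem exists_smulPt (h : IsPseudoTorsorSch a) (p q : T ⟶ X) : ∃ g : T ⟶ G, smulPt a g p = q := by
  haveI : IsIso (lift a.act (snd G X)) := h
  refine ⟨lift q p ≫ inv (lift a.act (snd G X)) ≫ fst G X, ?_⟩
  have e2 : lift q p ≫ inv (lift a.act (snd G X)) ≫ snd G X = p := by
    have : inv (lift a.act (snd G X)) ≫ snd G X = snd X X := by
      rw [IsIso.inv_comp_eq, lift_snd]
    rw [this, lift_snd]
  have e : lift (lift q p ≫ inv (lift a.act (snd G X)) ≫ fst G X) p =
      lift q p ≫ inv (lift a.act (snd G X)) := by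
    apply CartesianMonoidalCategory.hom_ext
    · rw [lift_fst, Category.assoc]
    · rw [lift_snd, Category.assoc, e2]
  have e3 : inv (lift a.act (snd G X)) ≫ a.act = fst X X := by
    rw [IsIso.inv_comp_eq, lift_fst]
  rw [smulPt, e, Category.assoc, e3, lift_fst]

theorem smulPt_injective (h : IsPseudoTorsorSch a) (p : T ⟶ X) :
    Function.Injective fun g : T ⟶ G => smulPt a g p := by
  intro g g' hg
  haveI : IsIso (lift a.act (snd G X)) := h
  have : lift g p ≫ lift a.act (snd G X) = lift g' p ≫ lift a.act (snd G X) := by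
    rw [comp_lift, comp_lift, lift_snd, lift_snd]
    exact congrArg (fun z => lift z p) hg
  have := (cancel_mono (lift a.act (snd G X))).1 this
  simpa using congrArg (· ≫ fst G X) this

end Cart

variable {A : Type u} [CommRing A] (j : Spec (CommRingCat.of A) ⟶ S)

/-- The test scheme of an algebra over an affine piece of the base. -/
abbrev testObj (C : Type u) [CommRing C] [Algebra A C] : Over S :=
  Over.mk (Spec.map (CommRingCat.ofHom (algebraMap A C)) ≫ j)

/-- The morphism of test schemes of an algebra map. -/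
def testMap {C D : Type u} [CommRing C] [Algebra A C] [CommRing D] [Algebra A D] (φ : C →ₐ[A] D) :
    testObj j D ⟶ testObj j C :=
  Over.homMk (Spec.map (CommRingCat.ofHom φ.toRingHom)) (by
    change Spec.map (CommRingCat.ofHom φ.toRingHom) ≫ Spec.map (CommRingCat.ofHom (algebraMap A C)) ≫ j =
      Spec.map (CommRingCat.ofHom (algebraMap A D)) ≫ j
    rw [← Spec.map_comp_assoc, ← CommRingCat.ofHom_comp]
    congr 3
    exact φ.comp_algebraMap)

theorem testMap_comp {C D E : Type u} [CommRing C] [Algebra A C] [CommRing D] [Algebra A D] [CommRing E]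
    [Algebra A E] (φ : C →ₐ[A] D) (ψ : D →ₐ[A] E) :
    testMap j ψ ≫ testMap j φ = testMap j (ψ.comp φ) := by
  ext1
  exact (Spec.map_comp _ _).symm

theorem testMap_comp_assoc {C D E : Type u} [CommRing C] [Algebra A C] [CommRing D] [Algebra A D] [CommRing E]
    [Algebra A E] (φ : C →ₐ[A] D) (ψ : D →ₐ[A] E) {Z : Over S} (p : testObj j C ⟶ Z) :
    testMap j ψ ≫ testMap j φ ≫ p = testMap j (ψ.comp φ) ≫ p := by
  rw [← Category.assoc, testMap_comp]

variable {G X : Over S} [GrpObj G] (a : AlgGrp.Action G X)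
variable {B : Type u} [CommRing B] [Algebra A B]

/-- Left insertion. -/
abbrev insL : B →ₐ[A] B ⊗[A] B := Algebra.TensorProduct.includeLeft

/-- Right insertion. -/
abbrev insR : B →ₐ[A] B ⊗[A] B := Algebra.TensorProduct.includeRight

/-- Insertion in the first two slots. -/
abbrev ins12 : B ⊗[A] B →ₐ[A] B ⊗[A] (B ⊗[A] B) :=
  Algebra.TensorProduct.map (AlgHom.id A B) Algebra.TensorProduct.includeLeft

/-- Insertion in the last two slots. -/
abbrev ins23 : B ⊗[A] B →ₐ[A] B ⊗[A] (B ⊗[A] B) := Algebra.TensorProduct.includeRight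

/-- Insertion in the outer slots. -/
abbrev ins13 : B ⊗[A] B →ₐ[A] B ⊗[A] (B ⊗[A] B) :=
  Algebra.TensorProduct.map (AlgHom.id A B) Algebra.TensorProduct.includeRight

/-- The cocycle of a point over a covering algebra. -/
theorem exists_cocycle (h : IsPseudoTorsorSch a) (p : testObj j B ⟶ X) :
    ∃ g : testObj j (B ⊗[A] B) ⟶ G,
      smulPt a g (testMap j insL ≫ p) = testMap j insR ≫ p ∧
      (testMap j ins23 ≫ g) * (testMap j ins12 ≫ g) = testMap j ins13 ≫ g := by
  obtain ⟨g, hg⟩ := exists_smulPt a h (testMap j insL ≫ p) (testMap j insR ≫ p)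
  refine ⟨g, hg, smulPt_injective a h (testMap j (ins13.comp insL) ≫ p) ?_⟩
  have h12 := congrArg (fun z => testMap j (ins12 (A := A) (B := B)) ≫ z) hg
  have h23 := congrArg (fun z => testMap j (ins23 (A := A) (B := B)) ≫ z) hg
  have h13 := congrArg (fun z => testMap j (ins13 (A := A) (B := B)) ≫ z) hg
  simp only [comp_smulPt, testMap_comp_assoc] at h12 h23 h13
  have e1 : (ins12 (A := A) (B := B)).comp insL = (ins13 (A := A) (B := B)).comp insL := by ext b; rfl
  have e2 : (ins12 (A := A) (B := B)).comp insR = (ins23 (A := A) (B := B)).comp insL := by ext b; rfl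
  have e3 : (ins13 (A := A) (B := B)).comp insR = (ins23 (A := A) (B := B)).comp insR := by ext b; rfl
  change smulPt a ((testMap j ins23 ≫ g) * (testMap j ins12 ≫ g)) _ = smulPt a _ _
  rw [mul_smulPt, ← e1, h12, e2, h23, e1, h13, e3]

/-- A point with equal pullbacks descends. -/
theorem exists_descend [Module.FaithfullyFlat A B] (p : testObj j B ⟶ X)
    (hp : testMap j (insL (A := A) (B := B)) ≫ p = testMap j insR ≫ p) :
    ∃ s : Spec (CommRingCat.of A) ⟶ X.left, s ≫ X.hom = j := by
  let π := Spec.map (CommRingCat.ofHom (algebraMap A B))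
  have hfs : Flat π ∧ Surjective π := (flat_and_surjective_SpecMap_iff _).2
    ((RingHom.faithfullyFlat_algebraMap_iff).2 inferInstance)
  haveI := hfs.1
  haveI := hfs.2
  haveI : EffectiveEpi π := inferInstance
  have hpl : Spec.map (CommRingCat.ofHom (insL (A := A) (B := B)).toRingHom) ≫ p.left =
      Spec.map (CommRingCat.ofHom (insR (A := A) (B := B)).toRingHom) ≫ p.left :=
    congrArg CommaMorphism.left hp
  have key : pullback.fst π π ≫ p.left = pullback.snd π π ≫ p.left := by
    rw [← cancel_epi (pullbackSpecIso A B B).inv, ← Category.assoc, ← Category.assoc,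
      pullbackSpecIso_inv_fst, pullbackSpecIso_inv_snd]
    exact hpl
  have hcond : ∀ {Z : Scheme.{u}} (g₁ g₂ : Z ⟶ Spec (CommRingCat.of B)),
      g₁ ≫ π = g₂ ≫ π → g₁ ≫ p.left = g₂ ≫ p.left := fun {Z} g₁ g₂ hh => by
    rw [← pullback.lift_fst g₁ g₂ hh, Category.assoc, key, ← Category.assoc, pullback.lift_snd]
  refine ⟨EffectiveEpi.desc π p.left hcond, ?_⟩
  rw [← cancel_epi π, ← Category.assoc, EffectiveEpi.fac]
  exact Over.w p

/-- Over an affine open there is a point in a faithfully flat algebra. -/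
theorem exists_algebra_point {X : Over S} (h : IsLocallyTrivialFor Scheme.fpqcPrecoverage X)
    {U : S.Opens} (hU : IsAffineOpen U) :
    ∃ (B : Type u) (_ : CommRing B) (_ : Algebra Γ(S, U) B),
      Module.FaithfullyFlat Γ(S, U) B ∧ Nonempty (testObj hU.fromSpec B ⟶ X) := by
  obtain ⟨W, c, hcf, hcs, hcq, ⟨p⟩⟩ := TorsFpqc.exists_local_section h hU
  haveI : IsAffine U.toScheme := hU
  haveI := hcf
  haveI := hcs
  haveI := hcq
  haveI : CompactSpace W := QuasiCompact.compactSpace_of_compactSpace c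
  obtain ⟨Y, q, hqs, hqf, hY⟩ := Scheme.exists_hom_isAffine_of_isZariskiLocalAtSource @Flat W
  haveI := hqs
  haveI := hqf
  haveI := hY
  let d : Spec Γ(Y, ⊤) ⟶ Spec Γ(S, U) := Y.isoSpec.inv ≫ (q ≫ c) ≫ hU.isoSpec.hom
  obtain ⟨φ, hφ⟩ := Spec.map_surjective d
  have hd : Flat d ∧ Surjective d := ⟨inferInstance, inferInstance⟩
  rw [← hφ] at hd
  letI := φ.hom.toAlgebra
  refine ⟨Γ(Y, ⊤), inferInstance, φ.hom.toAlgebra, ?_, ⟨Over.homMk (Y.isoSpec.inv ≫ q ≫ p.left) ?_⟩⟩
  · exact (RingHom.faithfullyFlat_algebraMap_iff).1 ((flat_and_surjective_SpecMap_iff φ).1 hd)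
  · change (Y.isoSpec.inv ≫ q ≫ p.left) ≫ X.hom = Spec.map φ ≫ hU.fromSpec
    have hw : p.left ≫ X.hom = c ≫ U.ι := Over.w p
    rw [hφ, Category.assoc, Category.assoc, hw]
    simp [d]

end Groth.Agent.TorsVec
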