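import Mathlib
import Groth.Agent.TorsVecLib.Points

/-!
# Multiplicative cocycles of a faithfully flat algebra are coboundaries Zariski locally
-/

set_option autoImplicit false
set_option backward.isDefEq.respectTransparency false
set_option linter.all false
universe u

open TensorProduct

noncomputable section

namespace Groth.Agent.TorsVec

variable {A B : Type u} [CommRing A] [CommRing B] [Algebra A B]

/-- The twisted difference map of a cocycle. -/
def twistDiff (c : B ⊗[A] B) : B →ₗ[A] B ⊗[A] B :=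
  (insR (A := A) (B := B)).toLinearMap - (LinearMap.mulLeft A c) ∘ₗ (insL (A := A) (B := B)).toLinearMap

theorem twistDiff_apply (c : B ⊗[A] B) (b : B) : twistDiff c b = 1 ⊗ₜ b - c * (b ⊗ₜ 1) := rfl

theorem lTensor_twistDiff (c z : B ⊗[A] B) :
    (twistDiff c).lTensor B z =
      ins13 (A := A) (B := B) z - ins23 (A := A) (B := B) c * ins12 (A := A) (B := B) z := by
  induction z using TensorProduct.induction_on with
  | zero => simp
  | add x y hx hy => simp only [map_add, mul_add, hx, hy]; abel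
  | tmul x y =>
    simp [twistDiff_apply, tmul_sub]

/-- Multiplication of all three slots. -/
abbrev mul3 : B ⊗[A] (B ⊗[A] B) →ₐ[A] B :=
  (Algebra.TensorProduct.lmul' A).comp (Algebra.TensorProduct.map (AlgHom.id A B) (Algebra.TensorProduct.lmul' A))

theorem mul3_ins (z : B ⊗[A] B) :
    mul3 (ins12 (A := A) (B := B) z) = Algebra.TensorProduct.lmul' A z ∧
    mul3 (ins23 (A := A) (B := B) z) = Algebra.TensorProduct.lmul' A z ∧
    mul3 (ins13 (A := A) (B := B) z) = Algebra.TensorProduct.lmul' A z := by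
  induction z using TensorProduct.induction_on with
  | zero => simp
  | add x y hx hy => simp only [map_add, hx.1, hx.2.1, hx.2.2, hy.1, hy.2.1, hy.2.2]; simp
  | tmul x y => simp

/-- The twisted invariants generate the unit ideal. -/
theorem span_twist_eq_top [Module.Flat A B] (c : (B ⊗[A] B)ˣ)
    (hc : ins23 (A := A) (B := B) (c : B ⊗[A] B) * ins12 (A := A) (B := B) (c : B ⊗[A] B) =
      ins13 (A := A) (B := B) (c : B ⊗[A] B)) :
    Ideal.span ((LinearMap.ker (twistDiff (c : B ⊗[A] B)) : Submodule A B) : Set B) = ⊤ := by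
  set M : Submodule A B := LinearMap.ker (twistDiff (c : B ⊗[A] B))
  have h0 : (twistDiff (c : B ⊗[A] B)).lTensor B (c : B ⊗[A] B) = 0 := by
    rw [lTensor_twistDiff, hc, sub_self]
  obtain ⟨w, hw⟩ := (Module.Flat.lTensor_exact B (LinearMap.exact_subtype_ker_map _) _).1 h0
  have hmem : ∀ w : B ⊗[A] M, Algebra.TensorProduct.lmul' A (M.subtype.lTensor B w) ∈ Ideal.span (M : Set B) := by
    intro w
    induction w using TensorProduct.induction_on with
    | zero => simp
    | add x y hx hy => rw [map_add, map_add]; exact add_mem hx hy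
    | tmul x y =>
      rw [LinearMap.lTensor_tmul, Algebra.TensorProduct.lmul'_apply_tmul]
      exact Ideal.mul_mem_left _ _ (Ideal.subset_span y.2)
  have hu : IsUnit (Algebra.TensorProduct.lmul' A (c : B ⊗[A] B)) := c.isUnit.map _
  have := hmem w
  rw [hw] at this
  exact Ideal.eq_top_of_isUnit_mem _ this hu

/-- Elements of the base which split the cocycle generate the unit ideal. -/
theorem span_splitting_eq_top [Module.FaithfullyFlat A B] (c : (B ⊗[A] B)ˣ)
    (hc : ins23 (A := A) (B := B) (c : B ⊗[A] B) * ins12 (A := A) (B := B) (c : B ⊗[A] B) =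
      ins13 (A := A) (B := B) (c : B ⊗[A] B)) :
    Ideal.span {x : A | ∃ m n : B, (1 : B) ⊗ₜ[A] m = (c : B ⊗[A] B) * (m ⊗ₜ 1) ∧ algebraMap A B x = m * n} = ⊤ := by
  set I := Ideal.span {x : A | ∃ m n : B, (1 : B) ⊗ₜ[A] m = (c : B ⊗[A] B) * (m ⊗ₜ 1) ∧ algebraMap A B x = m * n}
  have hc' : ins23 (A := A) (B := B) (↑c⁻¹ : B ⊗[A] B) * ins12 (A := A) (B := B) (↑c⁻¹ : B ⊗[A] B) =
      ins13 (A := A) (B := B) (↑c⁻¹ : B ⊗[A] B) := by
    have h : ∀ f : B ⊗[A] B →ₐ[A] B ⊗[A] (B ⊗[A] B), f (↑c⁻¹ : B ⊗[A] B) =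
        ((Units.map (f : B ⊗[A] B →* B ⊗[A] (B ⊗[A] B)) c)⁻¹ : (B ⊗[A] (B ⊗[A] B))ˣ) := fun f => rfl
    rw [h, h, h, ← Units.val_mul, ← mul_inv_rev]
    congr 2
    exact Units.ext ((mul_comm _ _).trans hc)
  rw [← Ideal.comap_map_eq_self_of_faithfullyFlat (B := B) I]
  suffices I.map (algebraMap A B) = ⊤ by rw [this, Ideal.comap_top]
  have h1 := congrArg₂ (· * ·) (span_twist_eq_top c hc) (span_twist_eq_top c⁻¹ hc')
  simp only [Ideal.span_mul_span', Ideal.mul_top] at h1
  rw [eq_top_iff, ← h1]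
  refine Ideal.span_le.2 ?_
  rintro _ ⟨m, hm, n, hn, rfl⟩
  have hm' : (1 : B) ⊗ₜ[A] m = (c : B ⊗[A] B) * (m ⊗ₜ 1) :=
    sub_eq_zero.1 (LinearMap.mem_ker.1 hm)
  have hn' : (1 : B) ⊗ₜ[A] n = (↑c⁻¹ : B ⊗[A] B) * (n ⊗ₜ 1) :=
    sub_eq_zero.1 (LinearMap.mem_ker.1 hn)
  have e : (m * n) ⊗ₜ[A] (1 : B) = (1 : B) ⊗ₜ[A] (m * n) := by
    have e1 : (1 : B) ⊗ₜ[A] (m * n) = ((1 : B) ⊗ₜ[A] m) * ((1 : B) ⊗ₜ[A] n) := by simp
    rw [e1, hm', hn', mul_mul_mul_comm, Units.mul_inv, one_mul]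
    simp
  obtain ⟨x, hx⟩ := ((Algebra.IsEffective.of_faithfullyFlat (R := A) (S := B)) (m * n)).1
    (by rw [Algebra.TensorProduct.includeLeftSubRight_apply, e, sub_self])
  change m * n ∈ I.map (algebraMap A B)
  rw [← hx]
  exact Ideal.mem_map_of_mem _ (Ideal.subset_span ⟨m, n, hm', hx⟩)

end Groth.Agent.TorsVec
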